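import Groth.Agent.PicRepLib.Zero
import Groth.Agent.HilbRepLib.Sheaf
import Groth.Agent.HilbCurveLib.Divisor

/-!
# Classes of relative divisors
-/

set_option autoImplicit false
set_option backward.isDefEq.respectTransparency false
set_option backward.isDefEq.respectTransparency.types false
set_option linter.style.haveILetI false
set_option maxHeartbeats 1000000

universe u

open CategoryTheory CategoryTheory.Limits AlgebraicGeometry TopologicalSpace Opposite
open Groth.Agent.PicLib Groth.Agent.PullbackMod Groth.Agent.ParaFLib Groth.Agent.JacLib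

noncomputable section

namespace Groth.Agent.PicRepLib

theorem eq_zeroScheme_of_isCanSect {Y : Scheme.{u}} {L : Y.Modules} (hL : PicF.IsInvertible L) {K : Y.IdealSheafData}
    {s : Γ(L, ⊤)} (hs : AbelMapLib.IsCanSect K L s) : K = PicF2.zeroScheme L (DCohLib.secHom L s) := by
  choose W hy l a hl hI hsl using hs
  refine Scheme.IdealSheafData.ext_of_iSup_eq_top (fun y : Y => W y)
    (eq_top_iff.2 fun y _ => Opens.mem_iSup.2 ⟨y, hy y⟩) fun y => ?_
  rw [ZeroSchemeLib.zeroScheme_ideal hL, hI]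
  refine (ZeroSchemeLib.colonIdeal_of_gen _ (hl y) ?_).symm
  rw [AmpleLib.resT, AmpleLib.sec_secHom]
  exact (hsl y).symm

variable {C S : Scheme.{u}} {f : C ⟶ S} [IsProper f] [SmoothOfRelativeDimension 1 f]
  {T T' : Over S} {d d' : ℕ}

/-- The ideal of a family is invertible. -/
theorem isInvertible_obj (Z : HilbD.Obj f d T) : PicF.IsInvertible (ClSub.idealMod Z.1) :=
  (Groth.Agent.S8914.result _).2 (HilbCurveLib.effCartier_of_flf (PicF.XTproj f T) Z.2.1)

/-- The class of a family. -/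
def divCls (Z : HilbD.Obj f d T) : Pic (PicF.XT f T) := (cls (isInvertible_obj Z))⁻¹

/-- The inverse image of a family. -/
def pullObj (g : T' ⟶ T) (Z : HilbD.Obj f d T) : HilbD.Obj f d T' :=
  ⟨HilbD.pull f g Z.1, HilbCurveLib.pull_deg f g Z.2⟩

theorem pull_divCls (g : T' ⟶ T) (Z : HilbD.Obj f d T) :
    pull (PicF.XTmap f g) (divCls Z) = divCls (pullObj g Z) := by
  obtain ⟨e⟩ := nonempty_iso_pullback_idealMod (PicF.XTmap f g) _
    ((Groth.Agent.S8914.result _).1 (isInvertible_obj Z))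
    (by rw [← HilbCurveLib.pull_eq]; exact (Groth.Agent.S8914.result _).1 (isInvertible_obj (pullObj g Z)))
  rw [divCls, divCls, map_inv, pull_cls]
  exact congrArg _ ((cls_eq_cls _ _).2 ⟨e ≪≫ eqToIso (by rw [← HilbCurveLib.pull_eq]; rfl)⟩)

variable [GeometricallyConnected f]

/-- A family with given class is the zero scheme of a generating section. -/
theorem eq_zeroScheme (Z : HilbD.Obj f d T) {L : (PicF.XT f T).Modules} (hL : PicF.IsInvertible L)
    (hc : divCls Z = cls hL) (hgood : Good (cls hL) = Set.univ) {s : Γ(L, ⊤)}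
    (hs : Gen (L := (Scheme.Modules.pushforward (PicF.XTproj f T)).obj L) (⊤ : T.left.Opens) s) :
    Z.1 = PicF2.zeroScheme L (DCohLib.secHom L s) := by
  haveI : Smooth f := SmoothOfRelativeDimension.smooth 1 f
  haveI := JacLib.geometricallyIntegral_curve f
  let π := PicF.XTproj f T
  have hI := isInvertible_obj Z
  obtain ⟨e⟩ : Nonempty (CohB1.tensorMod L (ClSub.idealMod Z.1) ≅ Coh.structureModule _) := by
    rw [← cls_eq_one (AmpleLib.isInvertible_tensor hL hI), cls_tensor hL hI, ← hc, divCls, inv_mul_cancel]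
  obtain ⟨σ, hσ⟩ := AbelMapLib.exists_canSect Z.1 hL hI e
  have hne : ∀ t, pullMap (π.fiberι t) L (fun _ _ => trivial : (⊤ : (π.fiber t).Opens) ≤ π.fiberι t ⁻¹ᵁ ⊤) σ ≠ 0 := by
    intro t h0
    obtain ⟨k, hk⟩ := (AbelMapLib.pullMap_eq_zero_iff Z.1 hL hσ (π.fiberι t)).1 h0
    have hsq : IsPullback (π.fiberι t) (π.fiberToSpecResidueField t) π (T.left.fromSpecResidueField t) :=
      IsPullback.of_hasPullback π (T.left.fromSpecResidueField t)
    have hC := HilbCurveLib.effCartier_of_flf (π.fiberToSpecResidueField t) (HilbCurveLib.deg_comap hsq Z.2).1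
    have hbot : Z.1.comap (π.fiberι t) = ⊥ := by
      show (pullback.fst (π.fiberι t) Z.1.subschemeι).ker = ⊥
      haveI : IsSplitEpi (pullback.fst (π.fiberι t) Z.1.subschemeι) :=
        ⟨⟨pullback.lift (𝟙 _) k (by rw [Category.id_comp, hk]), pullback.lift_fst _ _ _⟩⟩
      haveI : IsIso (pullback.fst (π.fiberι t) Z.1.subschemeι) := isIso_of_mono_of_isSplitEpi _
      exact Scheme.Hom.ker_eq_bot_of_isIso _
    rw [hbot] at hC
    haveI : IsIntegral (π.fiber t) := inferInstanceAs (IsIntegral (π.fiber t))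
    obtain ⟨z⟩ : Nonempty (π.fiber t) := inferInstance
    obtain ⟨V, hzV, c, hc', hV⟩ := hC z
    haveI : Nonempty V.1 := ⟨⟨z, hzV⟩⟩
    refine nonZeroDivisors.ne_zero hc' ?_
    have h1 := hV.symm
    simpa [Ideal.span_singleton_eq_bot] using h1
  obtain ⟨r, hr⟩ := AbelMapLib.exists_smul_of_rank_one π hL σ (fun t => (fiberRank_good hL hgood t).1) hne s
  let M := (Scheme.Modules.pushforward π).obj L
  obtain ⟨r', hr'⟩ := (hs ⊤ le_rfl).2 (show Γ(M, ⊤) from σ)
  rw [ParaFLib.res_self] at hr'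
  have hu : IsUnit r := by
    refine IsUnit.of_mul_eq_one r' ((hs ⊤ le_rfl).1 ?_)
    simp only [ParaFLib.res_self, one_smul]
    exact ((mul_smul r r' (show Γ(M, ⊤) from s)).trans (congrArg (r • ·) hr')).trans hr
  refine (eq_zeroScheme_of_isCanSect hL hσ).trans (Eq.symm ?_)
  refine ZeroSchemeLib.zeroScheme_eq_of_unit hL _ _ (π.app ⊤ r) (hu.map _) ?_
  rw [AmpleLib.sec_secHom, AmpleLib.sec_secHom]
  exact hr.symm

end Groth.Agent.PicRepLib
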