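import Groth.Agent.PicRepLib.Local
import Groth.Agent.OverRep.Main

/-!
# Representability of the rigidified Picard functor by divisor charts
-/

set_option autoImplicit false
set_option backward.isDefEq.respectTransparency false
set_option backward.isDefEq.respectTransparency.types false
set_option linter.style.haveILetI false
set_option maxHeartbeats 1000000

universe u

open CategoryTheory CategoryTheory.Limits AlgebraicGeometry TopologicalSpace Opposite
open Groth.Agent.PicLib

noncomputable section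

namespace Groth.Agent.PicRepLib

variable {C S : Scheme.{u}} {f : C ⟶ S}

/-- The inverse image of a class of the curve. -/
def tw (A : Pic C) (T : Over S) : Pic (PicF.XT f T) := pull (pullback.fst f T.hom) A

theorem pull_tw (A : Pic C) {T T' : Over S} (g : T' ⟶ T) :
    pull (PicF.XTmap f g) (tw (f := f) A T) = tw A T' := by
  rw [tw, tw, ← pull_comp, HilbCurveLib.XTmap_fst]

variable {σ : S ⟶ C} {hσ : σ ≫ f = 𝟙 S}

variable (σ hσ) in
/-- The rigidification of a class. -/
def rig {T : Over S} (a : Pic (PicF.XT f T)) : Pic (PicF.XT f T) :=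
  a * pull (PicF.XTproj f T) (pull (PicF.secT f σ hσ T) a)⁻¹

theorem rig_rigid {T : Over S} (a : Pic (PicF.XT f T)) : pull (PicF.secT f σ hσ T) (rig σ hσ a) = 1 := by
  rw [rig, map_mul, InvDescLib.pull_pull_of_id (InvDescLib.secT_proj σ hσ T), mul_inv_cancel]

theorem pull_rig {T T' : Over S} (g : T' ⟶ T) (a : Pic (PicF.XT f T)) :
    pull (PicF.XTmap f g) (rig σ hσ a) = rig σ hσ (pull (PicF.XTmap f g) a) := by
  rw [rig, rig, map_mul, pull_base_XTmap, InvDescLib.pull_secT_XTmap, map_inv]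

theorem rig_mul_base {T : Over S} (a : Pic (PicF.XT f T)) (N : Pic T.left) :
    rig σ hσ (a * pull (PicF.XTproj f T) N) = rig σ hσ a := by
  rw [rig, rig, map_mul, InvDescLib.pull_pull_of_id (InvDescLib.secT_proj σ hσ T), mul_inv, map_mul, map_inv,
    map_inv]
  rw [mul_comm (pull (PicF.XTproj f T) _)⁻¹ (pull (PicF.XTproj f T) N)⁻¹, ← mul_assoc, mul_inv_cancel_right]

theorem rig_eq_self {T : Over S} {a : Pic (PicF.XT f T)} (h : pull (PicF.secT f σ hσ T) a = 1) : rig σ hσ a = a := by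
  rw [rig, h, inv_one, map_one, mul_one]

theorem exists_base_of_rig_eq {T : Over S} {a b : Pic (PicF.XT f T)} (h : rig σ hσ a = rig σ hσ b) :
    ∃ N : Pic T.left, b = a * pull (PicF.XTproj f T) N := by
  refine ⟨(pull (PicF.secT f σ hσ T) a)⁻¹ * pull (PicF.secT f σ hσ T) b, ?_⟩
  rw [map_mul, ← mul_assoc, ← rig, h, rig, map_inv, inv_mul_cancel_right]

variable [IsProper f] [SmoothOfRelativeDimension 1 f] {d : ℕ}

variable (σ hσ) in
/-- The class of a family up to a fixed twist. -/
def chartCls (A : Pic C) {T : Over S} (Z : HilbD.Obj f d T) : Pic (PicF.XT f T) :=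
  rig σ hσ (divCls Z * (tw A T)⁻¹)

theorem pull_chartCls (A : Pic C) {T T' : Over S} (g : T' ⟶ T) (Z : HilbD.Obj f d T) :
    pull (PicF.XTmap f g) (chartCls σ hσ A Z) = chartCls σ hσ A (pullObj g Z) := by
  rw [chartCls, chartCls, pull_rig, map_mul, map_inv, pull_divCls, pull_tw]

theorem exists_base_of_chartCls_eq (A : Pic C) {T : Over S} {Z : HilbD.Obj f d T} {x : Pic (PicF.XT f T)}
    (h : chartCls σ hσ A Z = rig σ hσ x) :
    ∃ N : Pic T.left, x * tw A T = divCls Z * pull (PicF.XTproj f T) N := by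
  obtain ⟨N, hN⟩ := exists_base_of_rig_eq h
  exact ⟨N, by rw [hN, mul_assoc, mul_comm _ (tw A T), ← mul_assoc, inv_mul_cancel_right]⟩

theorem chartCls_eq_of_eq (A : Pic C) {T : Over S} {Z : HilbD.Obj f d T} {x : Pic (PicF.XT f T)} {N : Pic T.left}
    (hx : pull (PicF.secT f σ hσ T) x = 1) (h : x * tw A T = divCls Z * pull (PicF.XTproj f T) N) :
    chartCls σ hσ A Z = x := by
  conv_rhs => rw [← rig_eq_self hx, eq_mul_inv_of_mul_eq h, mul_right_comm, rig_mul_base]
  rfl

/-- A representing scheme covered by charts of finite presentation is locally of finite presentation. -/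
theorem locallyOfFinitePresentation_of_cover {S : Scheme.{u}} {F : (Over S)ᵒᵖ ⥤ Type u} {Y : Over S}
    (r : F.RepresentableBy Y) {ι : Type u} (Z : ι → Over S) (e : ∀ i, F.obj (op (Z i)))
    (hinj : ∀ (i : ι) (T : Over S) (a b : T ⟶ Z i), F.map a.op (e i) = F.map b.op (e i) → a = b)
    (hopen : ∀ (i : ι) (T : Over S) (s : F.obj (op T)), ∃ V : T.left.Opens, ∀ (T' : Over S) (t : T' ⟶ T),
      (∃ a : T' ⟶ Z i, F.map a.op (e i) = F.map t.op s) ↔ Set.range t.left ⊆ V)
    (hcov : ∀ (T : Over S) (s : F.obj (op T)) (p : T.left), ∃ (i : ι) (T' : Over S) (t : T' ⟶ T) (a : T' ⟶ Z i),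
      IsOpenImmersion t.left ∧ p ∈ Set.range t.left ∧ F.map a.op (e i) = F.map t.op s)
    [∀ i, LocallyOfFinitePresentation (Z i).hom] : LocallyOfFinitePresentation Y.hom := by
  let u := r.homEquiv (𝟙 Y)
  choose V hV using fun i => hopen i Y u
  have hcov' : iSup V = ⊤ := by
    refine eq_top_iff.2 fun p _ => Opens.mem_iSup.2 ?_
    obtain ⟨i, T', t, a, -, hp, ha⟩ := hcov Y u p
    exact ⟨i, (hV i T' t).1 ⟨a, ha⟩ hp⟩
  rw [IsZariskiLocalAtSource.iff_of_iSup_eq_top (P := @LocallyOfFinitePresentation) V hcov']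
  intro i
  let t : AbDual.ovr Y (V i).ι ⟶ Y := AbDual.ovrHom Y (V i).ι
  obtain ⟨a, ha⟩ := (hV i _ t).2 (by rintro _ ⟨z, rfl⟩; exact z.2)
  let b : Z i ⟶ Y := r.homEquiv.symm (e i)
  have hb : F.map b.op u = e i := by
    rw [← r.homEquiv_eq b, Equiv.apply_symm_apply]
  have hrb : Set.range b.left ⊆ Set.range (V i).ι := by
    rw [Scheme.Opens.range_ι]
    exact (hV i (Z i) b).1 ⟨𝟙 _, by rw [op_id, F.map_id, hb]; rfl⟩
  have hat : a ≫ b = t := r.homEquiv.injective (by
    rw [r.homEquiv_eq, r.homEquiv_eq t, op_comp, F.map_comp, ConcreteCategory.comp_apply]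
    exact (congrArg _ hb).trans ha)
  let b' : (Z i).left ⟶ (V i).toScheme := IsOpenImmersion.lift (V i).ι b.left hrb
  have hb' : b' ≫ (V i).ι = b.left := IsOpenImmersion.lift_fac _ _ _
  let bo : Z i ⟶ AbDual.ovr Y (V i).ι := Over.homMk b' (by
    show b' ≫ (V i).ι ≫ Y.hom = _
    rw [reassoc_of% hb']
    exact Over.w b)
  have h1 : bo ≫ a = 𝟙 _ := hinj i _ _ _ (by
    rw [op_comp, F.map_comp, ConcreteCategory.comp_apply, ha, ← ConcreteCategory.comp_apply, ← F.map_comp, ← op_comp,
      show bo ≫ t = b from Over.OverMorphism.ext hb', hb, op_id, F.map_id]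
    rfl)
  have h2 : a.left ≫ b' = 𝟙 _ := by
    rw [← cancel_mono (V i).ι, Category.assoc, hb', Category.id_comp]
    exact congrArg CommaMorphism.left hat
  haveI : IsIso a.left := ⟨b', h2, congrArg CommaMorphism.left h1⟩
  have h3 : (V i).ι ≫ Y.hom = a.left ≫ (Z i).hom := (Over.w a).symm
  rw [h3]
  infer_instance

variable [GeometricallyConnected f]

theorem eq_of_chartCls_eq (A : Pic C) {T : Over S} {d' : ℕ} {Z : HilbD.Obj f d T} {Z' : HilbD.Obj f d' T}
    (hgood : Good (divCls Z) = Set.univ)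
    (h : chartCls σ hσ A Z = chartCls σ hσ A Z') : Z.1 = Z'.1 := by
  obtain ⟨N, hN⟩ := exists_base_of_chartCls_eq A h
  rw [inv_mul_cancel_right] at hN
  exact eq_of_divCls Z Z' hgood N hN

variable {ι₀ : Type u} (A : ι₀ → Pic C) (H : ℕ → Over S) (Zu : ∀ d, HilbD.Obj f d (H d))

omit [GeometricallyConnected f] in
theorem exists_representableBy (hdim : ∀ s : S, topologicalKrullDim ↥(f.fiber s) = 1) [GeometricallyConnected f]
    (ha : InvDescLib.UnivConst f) (hZu : ∀ d, HilbD.IsUniversal f d (H d) (Zu d))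
    (htw : ∀ (T : Over S) (x : Pic (PicF.XT f T)) (t : T.left), ∃ i, t ∈ Good (x * tw (A i) T)) :
    ∃ Y : Over S, Nonempty ((rigFun f σ hσ).RepresentableBy Y) ∧
      ((∀ d, LocallyOfFinitePresentation (H d).hom) → LocallyOfFinitePresentation Y.hom) := by
  let V : ∀ d, (H d).left.Opens := fun d => ⟨Good (divCls (Zu d)), isOpen_good hdim _⟩
  let Zs : ι₀ × ULift.{u} ℕ → Over S := fun i => AbDual.ovr (H i.2.down) (V i.2.down).ι
  let j : ∀ i, Zs i ⟶ H i.2.down := fun i => AbDual.ovrHom (H i.2.down) (V i.2.down).ι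
  let e : ∀ i, (rigFun f σ hσ).obj (op (Zs i)) := fun i =>
    ofPic (chartCls σ hσ (A i.1) (pullObj (j i) (Zu i.2.down))) (rig_rigid _)
  have hmap : ∀ (i : ι₀ × ULift.{u} ℕ) (T : Over S) (a : T ⟶ Zs i),
      toPic ((rigFun f σ hσ).map a.op (e i)) =
        chartCls σ hσ (A i.1) (pullObj (a ≫ j i) (Zu i.2.down)) := fun i T a => by
    rw [toPic_map, toPic_ofPic, pull_chartCls]
    congr 1
    exact Subtype.ext (HilbCurveLib.pull_comp f (j i) a _).symm
  have hgd : ∀ (i : ι₀ × ULift.{u} ℕ) (T : Over S) (a : T ⟶ Zs i),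
      Good (divCls (pullObj (a ≫ j i) (Zu i.2.down))) = Set.univ := fun i T a => by
    rw [← pull_divCls]
    exact good_pull_univ _ (by rintro _ ⟨z, rfl⟩; exact (a.left z).2)
  have hinj : ∀ (i : ι₀ × ULift.{u} ℕ) (T : Over S) (a b : T ⟶ Zs i),
      (rigFun f σ hσ).map a.op (e i) = (rigFun f σ hσ).map b.op (e i) → a = b := by
    intro i T a b h
    have h' := congrArg toPic h
    rw [hmap, hmap] at h'
    have hZ := eq_of_chartCls_eq (A i.1) (hgd i T a) h'
    haveI : Mono (j i).left := inferInstanceAs (Mono (V i.2.down).ι)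
    haveI : Mono (j i) := Over.mono_of_mono_left (j i)
    obtain ⟨m, -, hm⟩ := hZu i.2.down T (pullObj (a ≫ j i) (Zu i.2.down))
    exact (cancel_mono (j i)).1 ((hm _ rfl).trans (hm _ hZ.symm).symm)
  have hlift : ∀ (i : ι₀ × ULift.{u} ℕ) (T : Over S) (x : (rigFun f σ hσ).obj (op T)) (Z : HilbD.Obj f i.2.down T)
      (N : Pic T.left), toPic x * tw (A i.1) T = divCls Z * pull (PicF.XTproj f T) N →
      Good (toPic x * tw (A i.1) T) = Set.univ → ∃ a : T ⟶ Zs i, (rigFun f σ hσ).map a.op (e i) = x := by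
    intro i T x Z N hN hg
    obtain ⟨m, hm, -⟩ := hZu i.2.down T Z
    have hgZ : Good (divCls Z) = Set.univ := by rw [← good_mul_base (divCls Z) N, ← hN, hg]
    have hr : Set.range m.left ⊆ Set.range (V i.2.down).ι := by
      rw [Scheme.Opens.range_ι]
      rintro _ ⟨z, rfl⟩
      have : z ∈ Good (pull (PicF.XTmap f m) (divCls (Zu i.2.down))) := by
        rw [pull_divCls, show pullObj m (Zu i.2.down) = Z from Subtype.ext hm, hgZ]
        trivial
      rw [good_pull] at this
      exact this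
    let a : T ⟶ Zs i := Over.homMk (IsOpenImmersion.lift (V i.2.down).ι m.left hr) (by
      show IsOpenImmersion.lift _ _ _ ≫ (V i.2.down).ι ≫ (H i.2.down).hom = _
      rw [IsOpenImmersion.lift_fac_assoc]
      exact Over.w m)
    have haj : a ≫ j i = m := Over.OverMorphism.ext (IsOpenImmersion.lift_fac _ _ _)
    refine ⟨a, toPic_injective ?_⟩
    rw [hmap, haj, show pullObj m (Zu i.2.down) = Z from Subtype.ext hm]
    exact chartCls_eq_of_eq (A i.1) (toPic_rig x) hN
  suffices h : _ ∧ _ from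
    have h' := OverRep.exists_representableBy_of_cover (F := rigFun f σ hσ) (isSheaf_rigFun ha) Zs e hinj h.1 h.2
    h'.elim fun Y ⟨r⟩ => ⟨Y, ⟨r⟩, fun hl =>
      haveI : ∀ i, LocallyOfFinitePresentation (Zs i).hom := fun i =>
        haveI := hl i.2.down
        inferInstanceAs (LocallyOfFinitePresentation ((V i.2.down).ι ≫ (H i.2.down).hom))
      locallyOfFinitePresentation_of_cover r Zs e hinj h.1 h.2⟩
  refine ⟨?_, ?_⟩
  · intro i T s
    let y := toPic s * tw (A i.1) T
    let P : Set T.left := {t | ∃ (T₁ : Over S) (g : T₁ ⟶ T) (_ : IsOpenImmersion g.left) (Z : HilbD.Obj f i.2.down T₁)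
      (N : Pic T₁.left), t ∈ Set.range g.left ∧ Set.range g.left ⊆ Good y ∧
        pull (PicF.XTmap f g) y = divCls Z * pull (PicF.XTproj f T₁) N}
    have hP : IsOpen P := by
      rw [isOpen_iff_mem_nhds]
      rintro t ⟨T₁, g, hg, Z, N, ht, hGood, hN⟩
      haveI := hg
      refine Filter.mem_of_superset (g.left.isOpenEmbedding.isOpen_range.mem_nhds ht) fun v hv => ?_
      exact ⟨T₁, g, hg, Z, N, hv, hGood, hN⟩
    refine ⟨⟨P, hP⟩, fun T' t => ⟨?_, fun hr => ?_⟩⟩
    · rintro ⟨a, ha'⟩ _ ⟨p, rfl⟩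
      have h1 := congrArg toPic ha'
      rw [hmap, toPic_map] at h1
      obtain ⟨N, hN⟩ := exists_base_of_chartCls_eq (σ := σ) (hσ := hσ) (A i.1)
        (h1.trans (rig_eq_self (InvDescLib.rigid_XTmap t (toPic_rig s))).symm)
      rw [← pull_tw (A i.1) t, ← map_mul] at hN
      have hp : t.left p ∈ Good y := by
        have h2 : Good (pull (PicF.XTmap f t) y) = Set.univ := by rw [hN, good_mul_base, hgd]
        rw [good_pull] at h2
        exact h2.ge (Set.mem_univ p)
      obtain ⟨T₁, g, d', Z₁, hg, ⟨q, hq⟩, hGood, hZ₁⟩ := exists_family_near hdim y hp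
      haveI := hg
      let Q : Over S := AbDual.ovr T' (pullback.fst t.left g.left)
      let r : Q ⟶ T' := AbDual.ovrHom T' (pullback.fst t.left g.left)
      let w : Q ⟶ T₁ := Over.homMk (pullback.snd t.left g.left) (by
        show _ ≫ T₁.hom = pullback.fst t.left g.left ≫ T'.hom
        rw [← Over.w g, ← pullback.condition_assoc, Over.w t])
      have hsq : r ≫ t = w ≫ g := Over.OverMorphism.ext pullback.condition
      have e1 : pull (PicF.XTmap f (r ≫ t)) y = divCls (pullObj w Z₁) := by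
        rw [hsq, ← InvDescLib.pull_XTmap_XTmap g w rfl, hZ₁, pull_divCls]
      rw [← InvDescLib.pull_XTmap_XTmap t r rfl, hN, map_mul, pull_base_XTmap, pull_divCls] at e1
      have hgq : Good (divCls (pullObj r (pullObj (a ≫ j i) (Zu i.2.down)))) = Set.univ := by
        rw [← pull_divCls, good_pull, hgd, Set.preimage_univ]
      have hid := eq_of_divCls _ (pullObj w Z₁) hgq _ e1.symm
      obtain ⟨z, -, -⟩ := Scheme.Pullback.exists_preimage_pullback (f := t.left) (g := g.left) p q hq.symm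
      have h3 := (pullObj r (pullObj (a ≫ j i) (Zu i.2.down))).2.2 z
      have h4 := (pullObj w Z₁).2.2 z
      rw [hid, h4] at h3
      subst h3
      exact ⟨T₁, g, hg, Z₁, 1, ⟨q, hq⟩, hGood, by rw [hZ₁, map_one, mul_one]⟩
    · have hmem : ∀ p : T'.left, t.left p ∈ P := fun p => hr ⟨p, rfl⟩
      choose T₁ g hg Z N hmem' hGood hN using hmem
      haveI : ∀ p, IsOpenImmersion (g p).left := hg
      let W : T'.left → Scheme.{u} := fun p => pullback t.left (g p).left
      let r : ∀ p, W p ⟶ T'.left := fun p => pullback.fst t.left (g p).left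
      haveI : ∀ p, IsOpenImmersion (r p) := fun p => inferInstanceAs (IsOpenImmersion (pullback.fst t.left (g p).left))
      have hcr : ∀ p : T'.left, ∃ p', p ∈ Set.range (r p') := fun p => by
        obtain ⟨q, hq⟩ := hmem' p
        obtain ⟨z, hz, -⟩ := Scheme.Pullback.exists_preimage_pullback (f := t.left) (g := (g p).left) p q hq.symm
        exact ⟨p, z, hz⟩
      let w : ∀ p, AbDual.ovr T' (r p) ⟶ T₁ p := fun p => Over.homMk (pullback.snd t.left (g p).left) (by
        show _ ≫ (T₁ p).hom = pullback.fst t.left (g p).left ≫ T'.hom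
        rw [← Over.w (g p), ← pullback.condition_assoc, Over.w t])
      have hsq : ∀ p, AbDual.ovrHom T' (r p) ≫ t = w p ≫ g p := fun p => Over.OverMorphism.ext pullback.condition
      let x : ∀ p, (rigFun f σ hσ).obj (op (AbDual.ovr T' (r p))) := fun p =>
        (rigFun f σ hσ).map (AbDual.ovrHom T' (r p) ≫ t).op s
      have hx : ∀ p, ∃ a : AbDual.ovr T' (r p) ⟶ Zs i, (rigFun f σ hσ).map a.op (e i) = x p := fun p => by
        have hy : toPic (x p) * tw (A i.1) _ = pull (PicF.XTmap f (AbDual.ovrHom T' (r p) ≫ t)) y := by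
          rw [toPic_map, map_mul, pull_tw]
        refine hlift i _ (x p) (pullObj (w p) (Z p)) (pull (w p).left (N p)) ?_ ?_
        · rw [hy, hsq p, ← InvDescLib.pull_XTmap_XTmap (g p) (w p) rfl, hN p, map_mul, pull_divCls, pull_base_XTmap]
        · rw [hy, hsq p]
          exact good_pull_univ _ (by rintro _ ⟨z, rfl⟩; exact hGood p ⟨(w p).left z, rfl⟩)
      choose a ha' using hx
      let 𝒰 : T'.left.OpenCover := Scheme.Cover.mkOfCovers T'.left W r hcr (fun p => inferInstance)
      have hglue : ∀ p q, pullback.fst (r p) (r q) ≫ (a p).left = pullback.snd (r p) (r q) ≫ (a q).left := by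
        intro p q
        let Q : Over S := AbDual.ovr (AbDual.ovr T' (r p)) (pullback.fst (r p) (r q))
        let k₁ : Q ⟶ AbDual.ovr T' (r p) := Over.homMk (pullback.fst (r p) (r q)) rfl
        let k₂ : Q ⟶ AbDual.ovr T' (r q) := Over.homMk (pullback.snd (r p) (r q)) (by
          show _ ≫ r q ≫ T'.hom = _ ≫ r p ≫ T'.hom
          rw [pullback.condition_assoc])
        refine congrArg CommaMorphism.left (hinj i Q (k₁ ≫ a p) (k₂ ≫ a q) (toPic_injective ?_))
        rw [toPic_map, toPic_map, ← InvDescLib.pull_XTmap_XTmap (a p) k₁ rfl, ← InvDescLib.pull_XTmap_XTmap (a q) k₂ rfl,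
          ← toPic_map (a p), ← toPic_map (a q), ha' p, ha' q, toPic_map, toPic_map, InvDescLib.pull_XTmap_XTmap _ _ rfl,
          InvDescLib.pull_XTmap_XTmap _ _ rfl]
        congr 3
        apply Over.OverMorphism.ext
        exact pullback.condition_assoc _
      let al : T'.left ⟶ (Zs i).left := 𝒰.glueMorphisms (fun p => (a p).left) hglue
      have hal : ∀ p, r p ≫ al = (a p).left := fun p => 𝒰.ι_glueMorphisms (fun p => (a p).left) hglue p
      let aa : T' ⟶ Zs i := Over.homMk al (by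
        refine 𝒰.hom_ext _ _ fun p => ?_
        show r p ≫ al ≫ (Zs i).hom = r p ≫ T'.hom
        rw [← Category.assoc, hal p]
        exact Over.w (a p))
      refine ⟨aa, toPic_injective ?_⟩
      refine eq_of_cover (hσ := hσ) ha r hcr (toPic_rig _) (toPic_rig _) fun p => ?_
      rw [toPic_map, toPic_map, InvDescLib.pull_XTmap_XTmap aa _ rfl, InvDescLib.pull_XTmap_XTmap t _ rfl, ← toPic_map,
        ← toPic_map, show AbDual.ovrHom T' (r p) ≫ aa = a p from Over.OverMorphism.ext (hal p)]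
      exact congrArg toPic (ha' p)
  · intro T s p
    obtain ⟨i₀, hi₀⟩ := htw T (toPic s) p
    obtain ⟨T₁, g, d', Z, hg, hp, hGood, hZ⟩ := exists_family_near hdim _ hi₀
    have hy : toPic ((rigFun f σ hσ).map g.op s) * tw (A i₀) T₁ = pull (PicF.XTmap f g) (toPic s * tw (A i₀) T) := by
      rw [toPic_map, map_mul, pull_tw]
    obtain ⟨a, ha'⟩ := hlift ⟨i₀, ⟨d'⟩⟩ T₁ ((rigFun f σ hσ).map g.op s) Z 1
      (by rw [hy, hZ, map_one, mul_one]) (by rw [hy]; exact good_pull_univ _ hGood)
    exact ⟨⟨i₀, ⟨d'⟩⟩, T₁, g, a, hg, hp, ha'⟩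

/-- The rigidified Picard functor is representable when enough twists and the schemes of divisors exist. -/
theorem rigRepresentable (hdim : ∀ s : S, topologicalKrullDim ↥(f.fiber s) = 1) (ha : InvDescLib.UnivConst f)
    (hZu : ∀ d, HilbD.IsUniversal f d (H d) (Zu d))
    (htw : ∀ (T : Over S) (x : Pic (PicF.XT f T)) (t : T.left), ∃ i, t ∈ Good (x * tw (A i) T)) :
    PicF.RigRepresentable f σ hσ := by
  obtain ⟨Y, ⟨r⟩, -⟩ := exists_representableBy (σ := σ) (hσ := hσ) A H Zu hdim ha hZu htw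
  let u : (rigFun f σ hσ).obj (op Y) := r.homEquiv (𝟙 Y)
  refine ⟨Y, ⟨AbDualLib.toCl (toPic u), InvDescLib.rig_mem (σ := σ) (hσ := hσ) (toPic_rig u)⟩, fun T c => ?_⟩
  obtain ⟨b, hbc, hb⟩ := InvDescLib.exists_rig σ hσ c
  have key : ∀ g : T ⟶ Y, PicF.pullCl (PicF.XTmap f g) (AbDualLib.toCl (toPic u)) = c.1 ↔
      g = r.homEquiv.symm (ofPic b hb) := by
    intro g
    rw [← AbDualLib.toCl_pull, ← hbc, Equiv.eq_symm_apply, r.homEquiv_eq g, ← toPic_map]
    exact ⟨fun h => toPic_injective ((AbDualLib.toCl_injective h).trans (toPic_ofPic b hb).symm),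
      fun h => by rw [h, toPic_ofPic]⟩
  exact ⟨_, (key _).2 rfl, fun g hg => (key g).1 hg⟩

end Groth.Agent.PicRepLib
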