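import Groth.Agent.PicRepLib.Sheaf
import Groth.Agent.JacLib.EllSection
import Groth.Agent.GenSeesawLib.Closed

/-!
# The open set where a class is nonspecial with one section
-/

set_option autoImplicit false
set_option backward.isDefEq.respectTransparency false
set_option backward.isDefEq.respectTransparency.types false
set_option linter.style.haveILetI false
set_option maxHeartbeats 1000000

universe u

open CategoryTheory CategoryTheory.Limits AlgebraicGeometry TopologicalSpace Opposite
open Groth.Agent.PicLib Groth.Agent.PullbackMod Groth.Agent.ParaFLib Groth.Agent.JacLib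

noncomputable section

namespace Groth.Agent.PicRepLib

variable {C S : Scheme.{u}} {f : C ⟶ S} {T : Over S}

/-- A module of a class. -/
def rep {Y : Scheme.{u}} (a : Pic Y) : Y.Modules := (exists_cls a).choose

theorem isInvertible_rep {Y : Scheme.{u}} (a : Pic Y) : PicF.IsInvertible (rep a) := (exists_cls a).choose_spec.choose

theorem cls_rep {Y : Scheme.{u}} (a : Pic Y) : cls (isInvertible_rep a) = a := (exists_cls a).choose_spec.choose_spec

/-- The dimensions of the cohomology of the fibres of a class. -/
def rk (a : Pic (PicF.XT f T)) (p : ℕ) (t : T.left) : ℕ := CohIII.fiberRank (PicF.XTproj f T) (rep a) p t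

/-- The points where the class has one section and no first cohomology. -/
def Good (a : Pic (PicF.XT f T)) : Set T.left := {t | rk a 1 t = 0 ∧ rk a 0 t = 1}

theorem rk_cls {L : (PicF.XT f T).Modules} (hL : PicF.IsInvertible L) (p : ℕ) (t : T.left) :
    rk (cls hL) p t = CohIII.fiberRank (PicF.XTproj f T) L p t :=
  BCLib.fiberRank_congr _ ((cls_eq_cls _ hL).1 (cls_rep _)).some p t

theorem rk_congr {a b : Pic (PicF.XT f T)} {t : T.left}
    (h : pull ((PicF.XTproj f T).fiberι t) a = pull ((PicF.XTproj f T).fiberι t) b) (p : ℕ) : rk a p t = rk b p t := by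
  let π := PicF.XTproj f T
  letI : (π.fiber t).Over (Spec (CommRingCat.of (T.left.residueField t))) := ⟨π.fiberToSpecResidueField t⟩
  have h' : cls (AmpleLib.isInvertible_pullback (π.fiberι t) (isInvertible_rep a)) =
      cls (AmpleLib.isInvertible_pullback (π.fiberι t) (isInvertible_rep b)) := by
    rw [← pull_cls (π.fiberι t) (isInvertible_rep a), ← pull_cls (π.fiberι t) (isInvertible_rep b), cls_rep, cls_rep]
    exact h
  exact (BCLib.hhEquivL (A := T.left.residueField t) ((cls_eq_cls _ _).1 h').some p).finrank_eq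

theorem rk_mul_base (a : Pic (PicF.XT f T)) (N : Pic T.left) (p : ℕ) (t : T.left) :
    rk (a * pull (PicF.XTproj f T) N) p t = rk a p t := by
  refine rk_congr ?_ p
  rw [map_mul, ← pull_comp, (PicF.XTproj f T).fiber_fac t, pull_comp, eq_one_of_local (pull _ N), map_one, mul_one]

theorem good_mul_base (a : Pic (PicF.XT f T)) (N : Pic T.left) : Good (a * pull (PicF.XTproj f T) N) = Good a := by
  ext t
  simp only [Good, Set.mem_setOf_eq, rk_mul_base]

variable [IsProper f]

theorem rk_pull {T' : Over S} (g : T' ⟶ T) (a : Pic (PicF.XT f T)) (p : ℕ) (t : T'.left) :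
    rk (pull (PicF.XTmap f g) a) p t = rk a p (g.left t) := by
  haveI := PicDegLib.isQCoh_invertible (isInvertible_rep a)
  conv_lhs => rw [← cls_rep a, pull_cls, rk_cls]
  exact BCLib.fiberRank_baseChange (InvDescLib.isPullback_map g) _ p t

theorem good_pull {T' : Over S} (g : T' ⟶ T) (a : Pic (PicF.XT f T)) :
    Good (pull (PicF.XTmap f g) a) = g.left ⁻¹' Good a := by
  ext t
  simp only [Good, Set.mem_setOf_eq, Set.mem_preimage, rk_pull]

variable [SmoothOfRelativeDimension 1 f] [GeometricallyConnected f]

instance smoothOfRelativeDimension_XTproj : SmoothOfRelativeDimension 1 (PicF.XTproj f T) :=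
  haveI := smoothOfRelativeDimension_isStableUnderBaseChange (n := 1)
  MorphismProperty.pullback_snd (P := @SmoothOfRelativeDimension 1) f T.hom inferInstance

omit [GeometricallyConnected f] in
theorem finite_fiberH {L : (PicF.XT f T).Modules} (hL : PicF.IsInvertible L) (p : ℕ) (t : T.left) :
    Module.Finite (T.left.residueField t) (CohIII.fiberH (PicF.XTproj f T) L t p) := by
  let π := PicF.XTproj f T
  let κ := T.left.residueField t
  letI : (π.fiber t).Over (Spec (CommRingCat.of κ)) := ⟨π.fiberToSpecResidueField t⟩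
  haveI : IsProper (π.fiber t ↘ Spec (CommRingCat.of κ)) :=
    MorphismProperty.pullback_snd π (T.left.fromSpecResidueField t) inferInstance
  haveI := EulerIneqLib.isNoetherian_proper (X := π.fiber t) κ
  exact EulerIneqLib.finite_HH (k := κ)
    (CurveLib.isCoh_of_isInvertible (AmpleLib.isInvertible_pullback (π.fiberι t) hL)) p

omit [GeometricallyConnected f] in
theorem isOpen_rk_one_zero (a : Pic (PicF.XT f T)) : IsOpen {t | rk a 1 t = 0} := by
  let π := PicF.XTproj f T
  have hlf := CurveLib.isFinLocFree_of_isInvertible (isInvertible_rep a)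
  obtain ⟨hq, hfp⟩ := isQCoh_and_isFP_of_isFinLocFree (rep a) hlf
  haveI := hq
  rw [isOpen_iff_mem_nhds]
  intro t ht
  obtain ⟨V, D, htV⟩ := GenBCLib.exists_dat_at hfp (TildePerf.isFlatOver_of_isFinLocFree π hlf) t
  haveI := finite_fiberH (isInvertible_rep a) 1 t
  have h1 : Subsingleton (CohIII.fiberH π (rep a) t 1) := (Module.finrank_eq_zero_iff_of_free _ _).1 ht
  obtain ⟨r, hr, hg, -, hk⟩ := D.exists_vanish htV h1
  refine Filter.mem_of_superset ((T.left.basicOpen r).2.mem_nhds hr) fun v hv => ?_
  haveI := D.subsingleton_fiberH hv hg hk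
  exact Module.finrank_zero_of_subsingleton

variable (hdim : ∀ s : S, topologicalKrullDim ↥(f.fiber s) = 1)

omit [SmoothOfRelativeDimension 1 f] [GeometricallyConnected f] in
include hdim in
theorem dim_fibre (t : T.left) : topologicalKrullDim ↥((PicF.XTproj f T).fiber t) = 1 :=
  (Groth.Agent.S9777.result f _ (PicF.XTproj f T) (pullback.fst f T.hom) (IsPullback.of_hasPullback f T.hom) t).trans
    (hdim _)

omit [GeometricallyConnected f] in
include hdim in
theorem isOpen_good (a : Pic (PicF.XT f T)) : IsOpen (Good a) := by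
  let π := PicF.XTproj f T
  haveI : Smooth f := SmoothOfRelativeDimension.smooth 1 f
  have hd : ∀ t, topologicalKrullDim ↥(π.fiber t) ≤ (1 : ℕ) := fun t => by
    rw [show topologicalKrullDim ↥(π.fiber t) = 1 from dim_fibre hdim t]; rfl
  have h := (PicDegLib.isLocallyConstant_chi π hd (isInvertible_rep a)).isOpen_fiber 1
  have e : Good a = {t | rk a 1 t = 0} ∩ {t | PicDegLib.chi π (rep a) t = 1} := by
    ext t
    simp only [Good, rk, Set.mem_setOf_eq, Set.mem_inter_iff, PicDegLib.chi, π]
    omega
  rw [e]
  exact (isOpen_rk_one_zero a).inter h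

variable {L : (PicF.XT f T).Modules} (hL : PicF.IsInvertible L) (hgood : Good (cls hL) = Set.univ)

include hgood in
omit [IsProper f] [SmoothOfRelativeDimension 1 f] [GeometricallyConnected f] in
theorem fiberRank_good (t : T.left) :
    CohIII.fiberRank (PicF.XTproj f T) L 0 t = 1 ∧ CohIII.fiberRank (PicF.XTproj f T) L 1 t = 0 := by
  have h : t ∈ Good (cls hL) := hgood ▸ Set.mem_univ t
  rw [Good, Set.mem_setOf_eq, rk_cls, rk_cls] at h
  exact h.symm

include hgood in
omit [GeometricallyConnected f] in
theorem ptGood_good (t : T.left) : GenBCLib.PtGood (PicF.XTproj f T) L 1 t := by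
  let π := PicF.XTproj f T
  haveI : Smooth f := SmoothOfRelativeDimension.smooth 1 f
  have hlf := CurveLib.isFinLocFree_of_isInvertible hL
  obtain ⟨hq, hfp⟩ := isQCoh_and_isFP_of_isFinLocFree L hlf
  haveI := hq
  haveI := finite_fiberH hL 1 t
  have h1 : Subsingleton (CohIII.fiberH π L t 1) :=
    (Module.finrank_eq_zero_iff_of_free _ _).1 (fiberRank_good hL hgood t).2
  obtain ⟨V, D, htV⟩ := GenBCLib.exists_dat_at hfp (TildePerf.isFlatOver_of_isFinLocFree π hlf) t
  obtain ⟨a, ha, -, hsp, -⟩ := D.exists_vanish htV h1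
  refine ⟨⟨V, D, a, ha, hsp⟩, ?_⟩
  rw [← (fiberRank_good hL hgood t).1]
  exact D.freeAt_of_good ha hsp

include hgood in
omit [GeometricallyConnected f] in
theorem isInvertible_push_good : PicF.IsInvertible ((Scheme.Modules.pushforward (PicF.XTproj f T)).obj L) := by
  haveI : Smooth f := SmoothOfRelativeDimension.smooth 1 f
  haveI := PicDegLib.isQCoh_invertible hL
  exact VBLib.isInvertible_of_rank (GenBCLib.isFinLocFreeOfRank_of_ptGood 1 (ptGood_good hL hgood))

include hgood in
omit [GeometricallyConnected f] in
/-- A generating section of the direct image is nonzero on every fibre. -/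
theorem fibre_section_ne_zero {s : Γ(L, ⊤)}
    (hs : Gen (L := (Scheme.Modules.pushforward (PicF.XTproj f T)).obj L) (⊤ : T.left.Opens) s) (t : T.left) :
    pullMap ((PicF.XTproj f T).fiberι t) L
      (fun _ _ => trivial : (⊤ : ((PicF.XTproj f T).fiber t).Opens) ≤ (PicF.XTproj f T).fiberι t ⁻¹ᵁ ⊤) s ≠ 0 := by
  let π := PicF.XTproj f T
  haveI : Smooth f := SmoothOfRelativeDimension.smooth 1 f
  haveI := PicDegLib.isQCoh_invertible hL
  have hsq : IsPullback (π.fiberι t) (π.fiberToSpecResidueField t) π (T.left.fromSpecResidueField t) :=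
    IsPullback.of_hasPullback π (T.left.fromSpecResidueField t)
  haveI : IsProper (π.fiberToSpecResidueField t) :=
    MorphismProperty.pullback_snd π (T.left.fromSpecResidueField t) inferInstance
  haveI := GenBCLib.isIso_bc0 hsq L fun z => (ptGood_good hL hgood (T.left.fromSpecResidueField t z)).1
  let bc := CohBC.bc0 π (T.left.fromSpecResidueField t) (π.fiberToSpecResidueField t) (π.fiberι t) hsq.w L
  have h := gen_of_modIso (asIso bc)
    (CubeLib.gen_pullMap (T.left.fromSpecResidueField t) (isInvertible_push_good hL hgood) hs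
      (fun _ _ => trivial : (⊤ : (Spec (T.left.residueField t)).Opens) ≤ T.left.fromSpecResidueField t ⁻¹ᵁ ⊤))
  rw [asIso_hom, GenBCLib.bc0_pullMap hsq.w L (V := ⊤) (fun _ _ => trivial) (fun _ _ => trivial) s] at h
  intro h0
  haveI : Nontrivial Γ(Spec (T.left.residueField t), ⊤) := nontrivial_gamma_spec (T.left.residueField t)
  refine one_ne_zero (α := Γ(Spec (T.left.residueField t), ⊤)) ((h ⊤ le_rfl).1 ?_)
  simp only [ParaFLib.res_self, zero_smul, one_smul]
  exact h0

end Groth.Agent.PicRepLib
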