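import Groth.Agent.PicRepLib.Rep
import Groth.Agent.JacLib.RatTwist
import Groth.Agent.S1170
import Groth.Agent.AbDualLib.Rigid

/-!
# The Picard functor of a curve over a separably closed field
-/

set_option autoImplicit false
set_option backward.isDefEq.respectTransparency false
set_option backward.isDefEq.respectTransparency.types false
set_option linter.style.haveILetI false
set_option maxHeartbeats 1000000

universe u

open CategoryTheory CategoryTheory.Limits AlgebraicGeometry TopologicalSpace Opposite
open Groth.Agent.PicLib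

noncomputable section

namespace Groth.Agent.PicRepLib

variable {k : Type u} [Field k] [IsSepClosed k] {X : Scheme.{u}} [X.Over (Spec (CommRingCat.of k))]
  [IsProper (X ↘ Spec (CommRingCat.of k))] [Smooth (X ↘ Spec (CommRingCat.of k))] [IsIntegral X]
  (hdim : topologicalKrullDim X = 1)

include hdim in
/-- Every class becomes good at a given point after a twist from the curve. -/
theorem exists_twist_good (T : Over (Spec (CommRingCat.of k)))
    (x : Pic (PicF.XT (X ↘ Spec (CommRingCat.of k)) T)) (t : T.left) :
    ∃ A : Pic X, t ∈ Good (x * tw A T) := by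
  let f := X ↘ Spec (CommRingCat.of k)
  let π := PicF.XTproj f T
  let κ := T.left.residueField t
  let q : Spec κ ⟶ Spec (CommRingCat.of k) := T.left.fromSpecResidueField t ≫ T.hom
  letI : Algebra k κ := (Spec.preimage q).hom.toAlgebra
  have hq : Spec.map (CommRingCat.ofHom (algebraMap k κ)) = q := Spec.map_preimage q
  letI : (π.fiber t).Over (Spec (CommRingCat.of κ)) := ⟨π.fiberToSpecResidueField t⟩
  have hpb : IsPullback (π.fiberι t ≫ pullback.fst f T.hom) (π.fiber t ↘ Spec (CommRingCat.of κ)) f
      (Spec.map (CommRingCat.ofHom (algebraMap k κ))) := by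
    rw [hq]
    exact (IsPullback.of_hasPullback π (T.left.fromSpecResidueField t)).paste_horiz
      (IsPullback.of_hasPullback f T.hom)
  obtain ⟨L₀, hL₀, h0, h1⟩ := JacLib.exists_twist (k := k) hdim hpb
    (AmpleLib.isInvertible_pullback (π.fiberι t) (isInvertible_rep x))
  refine ⟨cls hL₀, ?_⟩
  have hc : cls (AmpleLib.isInvertible_tensor (AmpleLib.isInvertible_pullback (π.fiberι t) (isInvertible_rep x))
      (AmpleLib.isInvertible_pullback (π.fiberι t ≫ pullback.fst f T.hom) hL₀)) =
      cls (AmpleLib.isInvertible_pullback (π.fiberι t) (isInvertible_rep (x * tw (cls hL₀) T))) := by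
    rw [cls_tensor (AmpleLib.isInvertible_pullback (π.fiberι t) (isInvertible_rep x))
      (AmpleLib.isInvertible_pullback (π.fiberι t ≫ pullback.fst f T.hom) hL₀), ← pull_cls (π.fiberι t) (isInvertible_rep x),
      ← pull_cls (π.fiberι t ≫ pullback.fst f T.hom) hL₀,
      ← pull_cls (π.fiberι t) (isInvertible_rep (x * tw (cls hL₀) T)), cls_rep, cls_rep, pull_comp, map_mul]
    rfl
  have e : ∀ p, rk (x * tw (cls hL₀) T) p t = Module.finrank κ (Coh.HH (π.fiber t) (CohB1.tensorMod
      ((Scheme.Modules.pullback (π.fiberι t)).obj (rep x))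
      ((Scheme.Modules.pullback (π.fiberι t ≫ pullback.fst f T.hom)).obj L₀)) p) := fun p =>
    (BCLib.hhEquivL (A := κ) ((cls_eq_cls _ _).1 hc).some p).finrank_eq.symm
  refine ⟨?_, (e 0).trans h0⟩
  rw [e 1]
  exact Module.finrank_zero_of_subsingleton

include hdim in
/-- The rigidified Picard functor of a curve is representable. -/
theorem rigRepresentable_curve (σ : Spec (CommRingCat.of k) ⟶ X)
    (hσ : σ ≫ (X ↘ Spec (CommRingCat.of k)) = 𝟙 _) :
    PicF.RigRepresentable (X ↘ Spec (CommRingCat.of k)) σ hσ := by
  let f := X ↘ Spec (CommRingCat.of k)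
  haveI hgc : GeometricallyConnected f := JacLib.geometricallyConnected_of_sepClosed (k := k) (X := X)
  haveI : GeometricallyIntegral f := JacLib.geometricallyIntegral_curve f
  haveI : GeometricallyIrreducible f := GeomIrred.geometricallyIrreducible_of_irreducibleSpace f
  haveI : SmoothOfRelativeDimension 1 f := Groth.Agent.S1170.smoothOfRelDim_one f hdim
  haveI : IsLocallyNoetherian (Spec (CommRingCat.of k)) := inferInstance
  haveI : Flat f := inferInstance
  have hd : ∀ s : Spec (CommRingCat.of k), topologicalKrullDim ↥(f.fiber s) = 1 := fun s =>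
    (CurveFF.topologicalKrullDim_fiber_eq f s).trans hdim
  haveI : IsProper (Over.mk f).hom := inferInstanceAs (IsProper f)
  haveI : Flat (Over.mk f).hom := inferInstanceAs (Flat f)
  haveI : GeometricallyIntegral (Over.mk f).hom := inferInstanceAs (GeometricallyIntegral f)
  have hH := fun d => Groth.Agent.S1170.result k X f ⟨inferInstance, inferInstance, inferInstance, hdim⟩ d
  choose H Z hZ using hH
  exact rigRepresentable (σ := σ) (hσ := hσ) (A := fun i : Shrink.{u} (Pic X) => (equivShrink _).symm i) H Z hd
    (AbDualLib.univConst (Over.mk f)) (fun d => (hZ d).1) fun T x t => by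
      obtain ⟨A, hA⟩ := exists_twist_good hdim T x t
      exact ⟨equivShrink _ A, by rw [Equiv.symm_apply_apply]; exact hA⟩

end Groth.Agent.PicRepLib
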