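import Groth.Agent.ParaFLib.Glue
import Groth.Agent.PicLib.Group
import Groth.Agent.InvDescLib.RelPic

/-!
# The Picard group of a scheme is small
-/

set_option autoImplicit false
set_option backward.isDefEq.respectTransparency false
set_option backward.isDefEq.respectTransparency.types false
set_option linter.style.haveILetI false

universe u

open CategoryTheory AlgebraicGeometry TopologicalSpace
open Groth.Agent.PicLib Groth.Agent.ParaFLib Groth.Agent.PullbackMod

noncomputable section

namespace Groth.Agent.PicRepLib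

/-- Transition data indexed by points. -/
abbrev TransData (Y : Scheme.{u}) : Type u :=
  Σ U : Y → Y.Opens, ∀ i j : Y, Γ(Y, U i ⊓ U j)

/-- `d` are transition data of the class `a`. -/
def IsDataOf {Y : Scheme.{u}} (a : Pic Y) (d : TransData Y) : Prop :=
  ∃ (L : Y.Modules) (hL : PicF.IsInvertible L) (s : ∀ i, Γ(L, d.1 i)), cls hL = a ∧ iSup d.1 = ⊤ ∧
    (∀ i, Gen (d.1 i) (s i)) ∧
    ∀ i j, L.presheaf.map (homOfLE (inf_le_left : d.1 i ⊓ d.1 j ≤ d.1 i)).op (s i) =
      d.2 i j • L.presheaf.map (homOfLE (inf_le_right : d.1 i ⊓ d.1 j ≤ d.1 j)).op (s j)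

theorem exists_isDataOf {Y : Scheme.{u}} (a : Pic Y) : ∃ d, IsDataOf a d := by
  obtain ⟨L, hL, rfl⟩ := exists_cls a
  choose U s hU hs using fun y : Y => ParaFLib.exists_gen_nhd hL y
  choose η hη using fun i j => (hs j (U i ⊓ U j) inf_le_right).2
    (L.presheaf.map (homOfLE (inf_le_left : U i ⊓ U j ≤ U i)).op (s i))
  exact ⟨⟨U, η⟩, L, hL, s, rfl, eq_top_iff.2 fun y _ => Opens.mem_iSup.2 ⟨y, hU y⟩, hs, fun i j => (hη i j).symm⟩

theorem eq_of_isDataOf {Y : Scheme.{u}} {a b : Pic Y} {d : TransData Y} (ha : IsDataOf a d) (hb : IsDataOf b d) :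
    a = b := by
  obtain ⟨L, hL, s, rfl, hU, hs, hη⟩ := ha
  obtain ⟨M, hM, t, rfl, -, ht, hθ⟩ := hb
  exact (cls_eq_cls _ _).2 (nonempty_iso_of_bases hU hs ht d.2 hη hθ)

instance small_pic (Y : Scheme.{u}) : Small.{u} (Pic Y) :=
  small_of_injective (f := fun a => (exists_isDataOf a).choose) fun a b h => by
    have ha := (exists_isDataOf a).choose_spec
    have hb := (exists_isDataOf b).choose_spec
    simp only at h
    rw [← h] at hb
    exact eq_of_isDataOf ha hb

end Groth.Agent.PicRepLib
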