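import Groth.Agent.PicRepLib.Div

/-!
# Good classes are locally classes of unique families
-/

set_option autoImplicit false
set_option backward.isDefEq.respectTransparency false
set_option backward.isDefEq.respectTransparency.types false
set_option linter.style.haveILetI false
set_option maxHeartbeats 1000000

universe u

open CategoryTheory CategoryTheory.Limits AlgebraicGeometry TopologicalSpace Opposite
open Groth.Agent.PicLib Groth.Agent.PullbackMod Groth.Agent.ParaFLib Groth.Agent.JacLib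

noncomputable section

namespace Groth.Agent.PicRepLib

variable {C S : Scheme.{u}} {f : C ⟶ S} {T T' : Over S}

theorem pull_base_XTmap (g : T' ⟶ T) (N : Pic T.left) :
    pull (PicF.XTmap f g) (pull (PicF.XTproj f T) N) = pull (PicF.XTproj f T') (pull g.left N) := by
  rw [← pull_comp, (InvDescLib.isPullback_map g).w, pull_comp]

theorem exists_nhd_pull_eq_one (N : Pic T.left) (t : T.left) :
    ∃ W : T.left.Opens, t ∈ W ∧ pull W.ι N = 1 := by
  obtain ⟨M, hM, rfl⟩ := exists_cls N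
  obtain ⟨W, s, htW, hs⟩ := ParaFLib.exists_gen_nhd hM t
  refine ⟨W, htW, ?_⟩
  rw [pull_cls]
  exact (AbDualLib.eq_one_iff_triv _).2 ⟨_, CubeLib.gen_pullMap W.ι hM hs (fun z _ => z.2)⟩

variable [IsProper f]

theorem good_pull_univ (g : T' ⟶ T) {a : Pic (PicF.XT f T)} (h : Set.range g.left ⊆ Good a) :
    Good (pull (PicF.XTmap f g) a) = Set.univ := by
  rw [good_pull]
  exact Set.eq_univ_of_forall fun z => h ⟨z, rfl⟩

variable [SmoothOfRelativeDimension 1 f] [GeometricallyConnected f]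

omit [GeometricallyConnected f] in
/-- Generating sections of the direct image of a good class base change to generating sections. -/
theorem gen_bc_good {L : (PicF.XT f T).Modules} (hL : PicF.IsInvertible L) (hgood : Good (cls hL) = Set.univ)
    (g : T' ⟶ T) {V : T.left.Opens} (hV : (⊤ : T'.left.Opens) ≤ g.left ⁻¹ᵁ V)
    (s : Γ(L, PicF.XTproj f T ⁻¹ᵁ V)) (hs : Gen (L := (Scheme.Modules.pushforward (PicF.XTproj f T)).obj L) V s)
    (hle : (⊤ : (PicF.XT f T').Opens) ≤ PicF.XTmap f g ⁻¹ᵁ (PicF.XTproj f T ⁻¹ᵁ V)) :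
    Gen (L := (Scheme.Modules.pushforward (PicF.XTproj f T')).obj ((Scheme.Modules.pullback (PicF.XTmap f g)).obj L))
      (⊤ : T'.left.Opens) (pullMap (PicF.XTmap f g) L hle s) := by
  haveI := PicDegLib.isQCoh_invertible hL
  haveI : Smooth f := SmoothOfRelativeDimension.smooth 1 f
  haveI : IsIso (CohBC.bc0 (PicF.XTproj f T) g.left (PicF.XTproj f T') (PicF.XTmap f g)
      (InvDescLib.isPullback_map g).w L) :=
    GenBCLib.isIso_bc0 (InvDescLib.isPullback_map g) L fun z => (ptGood_good hL hgood (g.left z)).1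
  let bc := CohBC.bc0 (PicF.XTproj f T) g.left (PicF.XTproj f T') (PicF.XTmap f g) (InvDescLib.isPullback_map g).w L
  have h := gen_of_modIso (asIso bc) (CubeLib.gen_pullMap g.left (isInvertible_push_good hL hgood) hs hV)
  rw [asIso_hom, GenBCLib.bc0_pullMap (InvDescLib.isPullback_map g).w L hV hle s] at h
  exact h

omit [GeometricallyConnected f] in
/-- Near every point a good class is represented by a module with a generating section. -/
theorem exists_gen_near {a : Pic (PicF.XT f T)} (hgood : Good a = Set.univ) (t : T.left) :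
    ∃ (T' : Over S) (g : T' ⟶ T), IsOpenImmersion g.left ∧ t ∈ Set.range g.left ∧
      ∃ (L : (PicF.XT f T').Modules) (hL : PicF.IsInvertible L) (s : Γ(L, ⊤)),
        cls hL = pull (PicF.XTmap f g) a ∧ Gen (L := (Scheme.Modules.pushforward (PicF.XTproj f T')).obj L) ⊤ s := by
  obtain ⟨L, hL, rfl⟩ := exists_cls a
  obtain ⟨W, s, htW, hs⟩ := ParaFLib.exists_gen_nhd (isInvertible_push_good hL hgood) t
  let g : AbDual.ovr T W.ι ⟶ T := AbDual.ovrHom T W.ι
  have hV : (⊤ : (AbDual.ovr T W.ι).left.Opens) ≤ g.left ⁻¹ᵁ W := fun z _ => z.2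
  have hle : (⊤ : (PicF.XT f (AbDual.ovr T W.ι)).Opens) ≤ PicF.XTmap f g ⁻¹ᵁ (PicF.XTproj f T ⁻¹ᵁ W) := fun z _ => by
    show PicF.XTproj f T (PicF.XTmap f g z) ∈ W
    rw [← Scheme.Hom.comp_apply, (InvDescLib.isPullback_map g).w, Scheme.Hom.comp_apply]
    exact hV trivial
  exact ⟨_, g, inferInstanceAs (IsOpenImmersion W.ι), ⟨⟨t, htW⟩, rfl⟩, _, AmpleLib.isInvertible_pullback _ hL,
    _, rfl, gen_bc_good hL hgood g hV s hs hle⟩

variable (hdim : ∀ s : S, topologicalKrullDim ↥(f.fiber s) = 1)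

include hdim in
/-- Near a good point a class is the class of a family of divisors. -/
theorem exists_family_near (a : Pic (PicF.XT f T)) {t : T.left} (ht : t ∈ Good a) :
    ∃ (T' : Over S) (g : T' ⟶ T) (d : ℕ) (Z : HilbD.Obj f d T'), IsOpenImmersion g.left ∧ t ∈ Set.range g.left ∧
      Set.range g.left ⊆ Good a ∧ pull (PicF.XTmap f g) a = divCls Z := by
  let W₀ : T.left.Opens := ⟨Good a, isOpen_good hdim a⟩
  let g₀ : AbDual.ovr T W₀.ι ⟶ T := AbDual.ovrHom T W₀.ι
  have h₀ : Good (pull (PicF.XTmap f g₀) a) = Set.univ := good_pull_univ g₀ (by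
    rintro _ ⟨z, rfl⟩
    exact z.2)
  obtain ⟨T₁, g₁, ho, ⟨z, hz⟩, L, hL, s, hLa, hs⟩ := exists_gen_near h₀ ⟨t, ht⟩
  have hgL : Good (cls hL) = Set.univ := by rw [hLa, good_pull, h₀, Set.preimage_univ]
  obtain ⟨K, hI, hK, -, hKc⟩ := exists_divisor hL hgL hs
  obtain ⟨hfin, hflat, hlfp⟩ := hK
  haveI := hfin; haveI := hflat; haveI := hlfp
  let ρ := K.subschemeι ≫ PicF.XTproj f T₁
  let d := ρ.finrank z
  let W₂ : T₁.left.Opens := ⟨{y | ρ.finrank y = d}, ρ.isLocallyConstant_finrank.isOpen_fiber d⟩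
  let g₂ : AbDual.ovr T₁ W₂.ι ⟶ T₁ := AbDual.ovrHom T₁ W₂.ι
  have sq := (HilbCurveLib.isPullback_comap (HilbCurveLib.isPullback_XTmap f g₂) K).flip
  have hZ : Mor2.IsFinLocFreeOfDeg d ((HilbD.pull f g₂ K).subschemeι ≫ PicF.XTproj f _) := by
    rw [HilbCurveLib.pull_eq]
    refine ⟨⟨MorphismProperty.of_isPullback sq hfin, MorphismProperty.of_isPullback sq hflat,
      MorphismProperty.of_isPullback sq hlfp⟩, fun y => ?_⟩
    rw [Scheme.Hom.finrank_of_isPullback _ _ _ _ sq y]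
    exact y.2
  haveI := ho
  haveI : IsOpenImmersion (g₂ ≫ g₁ ≫ g₀).left :=
    inferInstanceAs (IsOpenImmersion (W₂.ι ≫ g₁.left ≫ W₀.ι))
  refine ⟨_, g₂ ≫ g₁ ≫ g₀, d, ⟨_, hZ⟩, inferInstance, ⟨⟨z, rfl⟩, ?_⟩, ?_, ?_⟩
  · show W₀.ι (g₁.left z) = t
    rw [hz]
    rfl
  · rintro _ ⟨y, rfl⟩
    exact (g₁.left (W₂.ι y)).2
  · rw [← InvDescLib.pull_XTmap_XTmap (g₁ ≫ g₀) g₂ rfl, ← InvDescLib.pull_XTmap_XTmap g₀ g₁ rfl, ← hLa, hKc, map_inv]
    obtain ⟨e⟩ := nonempty_iso_pullback_idealMod (PicF.XTmap f g₂) _ ((Groth.Agent.S8914.result _).1 hI)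
      (by rw [← HilbCurveLib.pull_eq]; exact (Groth.Agent.S8914.result _).1 (isInvertible_obj (⟨_, hZ⟩ : HilbD.Obj f d _)))
    rw [divCls, pull_cls]
    exact congrArg _ ((cls_eq_cls _ _).2 ⟨e ≪≫ eqToIso (by rw [← HilbCurveLib.pull_eq])⟩)

/-- A good class determines the family. -/
theorem eq_of_divCls {d d' : ℕ} (Z : HilbD.Obj f d T) (Z' : HilbD.Obj f d' T) (hgood : Good (divCls Z) = Set.univ)
    (N : Pic T.left) (h : divCls Z' = divCls Z * pull (PicF.XTproj f T) N) : Z.1 = Z'.1 := by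
  choose W htW hW using fun t : T.left => exists_nhd_pull_eq_one N t
  have hloc : ∀ t : T.left, ∃ (T' : Over S) (g : T' ⟶ T), IsOpenImmersion g.left ∧ t ∈ Set.range g.left ∧
      HilbD.pull f g Z.1 = HilbD.pull f g Z'.1 := by
    intro t
    let g₀ : AbDual.ovr T (W t).ι ⟶ T := AbDual.ovrHom T (W t).ι
    have h₀ : Good (pull (PicF.XTmap f g₀) (divCls Z)) = Set.univ := by rw [good_pull, hgood, Set.preimage_univ]
    have h₁ : pull (PicF.XTmap f g₀) (divCls Z') = pull (PicF.XTmap f g₀) (divCls Z) := by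
      rw [h, map_mul, pull_base_XTmap, show pull g₀.left N = 1 from hW t, map_one, mul_one]
    obtain ⟨T₁, g₁, ho, ⟨z, hz⟩, L, hL, s, hLa, hs⟩ := exists_gen_near h₀ ⟨t, htW t⟩
    have hgL : Good (cls hL) = Set.univ := by rw [hLa, good_pull, h₀, Set.preimage_univ]
    haveI := ho
    refine ⟨T₁, g₁ ≫ g₀, inferInstanceAs (IsOpenImmersion (g₁.left ≫ (W t).ι)), ⟨z, ?_⟩, ?_⟩
    · show (W t).ι (g₁.left z) = t
      rw [hz]
      rfl
    · have e₁ := eq_zeroScheme (pullObj (g₁ ≫ g₀) Z) hL (by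
        rw [← pull_divCls, ← InvDescLib.pull_XTmap_XTmap g₀ g₁ rfl, hLa]) hgL hs
      have e₂ := eq_zeroScheme (pullObj (g₁ ≫ g₀) Z') hL (by
        rw [← pull_divCls, ← InvDescLib.pull_XTmap_XTmap g₀ g₁ rfl, h₁, hLa]) hgL hs
      exact e₁.trans e₂.symm
  choose U g ho hmem hg using hloc
  haveI : ∀ t, IsOpenImmersion (g t).left := ho
  haveI : ∀ t, IsOpenImmersion (PicF.XTmap f (g t)) := fun t => HilbRepLib.isOpenImmersion_XTmap f (g t)
  refine HilbRepLib.eq_of_cover (fun t => PicF.XTmap f (g t))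
    (HilbRepLib.covers_XTmap f g fun x => ⟨x, hmem x⟩) fun t => ?_
  rw [← HilbCurveLib.pull_eq, ← HilbCurveLib.pull_eq, hg t]

end Groth.Agent.PicRepLib
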