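import Groth.Agent.PicRepLib.SmallPic
import Mathlib.AlgebraicGeometry.Sites.BigZariski

/-!
# The rigidified Picard functor is a Zariski sheaf
-/

set_option autoImplicit false
set_option backward.isDefEq.respectTransparency false
set_option backward.isDefEq.respectTransparency.types false
set_option linter.style.haveILetI false
set_option maxHeartbeats 1000000

universe u

open CategoryTheory CategoryTheory.Limits AlgebraicGeometry Opposite
open Groth.Agent.PicLib

noncomputable section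

namespace Groth.Agent.PicRepLib

variable {X S : Scheme.{u}} (f : X ⟶ S) (σ : S ⟶ X) (hσ : σ ≫ f = 𝟙 S)

theorem XTmap_id (T : Over S) : PicF.XTmap f (𝟙 T) = 𝟙 _ := by
  apply pullback.hom_ext <;> simp [PicF.XTmap, pullback.map]

/-- Classes trivial along the section. -/
abbrev RigPic (T : Over S) : Type (u + 1) := {a : Pic (PicF.XT f T) // pull (PicF.secT f σ hσ T) a = 1}

instance small_rigPic (T : Over S) : Small.{u} (RigPic f σ hσ T) :=
  inferInstanceAs (Small.{u} {a : Pic (PicF.XT f T) // pull (PicF.secT f σ hσ T) a = 1})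

/-- The rigidified Picard functor. -/
def rigFun : (Over S)ᵒᵖ ⥤ Type u where
  obj T := Shrink.{u} (RigPic f σ hσ T.unop)
  map {T T'} g := TypeCat.ofHom fun x =>
    equivShrink _ ⟨pull (PicF.XTmap f g.unop) ((equivShrink _).symm x).1,
      InvDescLib.rigid_XTmap g.unop ((equivShrink _).symm x).2⟩
  map_id T := ConcreteCategory.hom_ext _ _ fun x => by
    refine ((equivShrink _).symm_apply_eq.1 (Subtype.ext ?_)).symm
    show _ = pull (PicF.XTmap f (𝟙 T.unop)) _
    rw [XTmap_id, pull_id]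
    rfl
  map_comp {T T' T''} g g' := ConcreteCategory.hom_ext _ _ fun x => by
    refine congrArg (equivShrink _) (Subtype.ext ?_)
    refine Eq.trans ?_ (congrArg (pull (PicF.XTmap f g'.unop))
      (congrArg Subtype.val ((equivShrink _).symm_apply_apply _))).symm
    exact (InvDescLib.pull_XTmap_XTmap g.unop g'.unop rfl _).symm

variable {f σ hσ}

/-- The class of an element. -/
def toPic {T : Over S} (x : (rigFun f σ hσ).obj (op T)) : Pic (PicF.XT f T) := ((equivShrink _).symm x).1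

theorem toPic_rig {T : Over S} (x : (rigFun f σ hσ).obj (op T)) : pull (PicF.secT f σ hσ T) (toPic x) = 1 :=
  ((equivShrink _).symm x).2

theorem toPic_injective {T : Over S} : Function.Injective (toPic (f := f) (σ := σ) (hσ := hσ) (T := T)) :=
  fun _ _ h => (equivShrink _).symm.injective (Subtype.ext h)

/-- The element of a class. -/
def ofPic {T : Over S} (a : Pic (PicF.XT f T)) (h : pull (PicF.secT f σ hσ T) a = 1) :
    (rigFun f σ hσ).obj (op T) := equivShrink _ ⟨a, h⟩

theorem toPic_ofPic {T : Over S} (a : Pic (PicF.XT f T)) (h : pull (PicF.secT f σ hσ T) a = 1) :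
    toPic (ofPic a h) = a := congrArg Subtype.val ((equivShrink _).symm_apply_apply _)

theorem toPic_map {T T' : Over S} (g : T' ⟶ T) (x : (rigFun f σ hσ).obj (op T)) :
    toPic ((rigFun f σ hσ).map g.op x) = pull (PicF.XTmap f g) (toPic x) :=
  congrArg Subtype.val ((equivShrink _).symm_apply_apply _)

/-- Rigidified classes agree if they agree on a Zariski cover. -/
theorem eq_of_cover (ha : InvDescLib.UnivConst f) {T : Over S} {ι : Type u} {W : ι → Scheme.{u}}
    (v : ∀ i, W i ⟶ T.left) [∀ i, IsOpenImmersion (v i)] (hcov : ∀ z : T.left, ∃ i, z ∈ Set.range (v i))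
    {a b : Pic (PicF.XT f T)} (h : pull (PicF.secT f σ hσ T) a = 1) (h' : pull (PicF.secT f σ hσ T) b = 1)
    (e : ∀ i, pull (PicF.XTmap f (AbDual.ovrHom T (v i))) a = pull (PicF.XTmap f (AbDual.ovrHom T (v i))) b) :
    a = b := by
  haveI : Flat (Sigma.desc v) := IsZariskiLocalAtSource.sigmaDesc fun i => inferInstance
  haveI : LocallyOfFinitePresentation (Sigma.desc v) := IsZariskiLocalAtSource.sigmaDesc fun i => inferInstance
  haveI : Surjective (Sigma.desc v) := ⟨fun z => by
    obtain ⟨i, y, hy⟩ := hcov z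
    exact ⟨Sigma.ι W i y, by rw [← Scheme.Hom.comp_apply, Sigma.ι_desc]; exact hy⟩⟩
  haveI := SchDesc.IsFpqc.of_locallyOfFinitePresentation (Sigma.desc v)
  haveI := fun i => InvDescLib.isOpenImmersion_piece (f := f) v i
  refine div_eq_one.1 (InvDescLib.eq_one_of_pull_XTmap (hσ := hσ) ha (Sigma.desc v) ?_ ?_)
  · rw [map_div, h, h', div_self']
  · refine (InvDescLib.isDisjointUnion_pieces v).eq_one fun i => ?_
    rw [InvDescLib.pull_XTmap_XTmap _ _ (InvDescLib.pieceHom_comp v i), map_div, e i, div_self']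

theorem isSheaf_rigFun (ha : InvDescLib.UnivConst f) :
    Presheaf.IsSheaf (Scheme.zariskiTopology.over S) (rigFun f σ hσ) := by
  rw [isSheaf_iff_isSheaf_of_type]
  intro T R hR x hx
  rw [GrothendieckTopology.mem_over_iff] at hR
  obtain ⟨𝒰, h𝒰⟩ := Scheme.exists_cover_of_mem_grothendieckTopology hR
  let 𝒱 := 𝒰.ulift
  have h𝒱 : ∀ i, (Sieve.overEquiv T R).arrows (𝒱.f i) := fun i => h𝒰 _ _ (Presieve.ofArrows.mk _)
  have hR' : ∀ i, R (AbDual.ovrHom T (𝒱.f i)) := fun i => (Sieve.overEquiv_iff R (𝒱.f i)).mp (h𝒱 i)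
  let W : 𝒱.I₀ → Scheme.{u} := 𝒱.X
  let v : ∀ i, W i ⟶ T.left := 𝒱.f
  haveI : ∀ i, IsOpenImmersion (v i) := fun i => 𝒱.map_prop i
  have hcv : ∀ z : T.left, ∃ i, z ∈ Set.range (v i) := fun z => ⟨𝒱.idx z, 𝒱.covers z⟩
  let c : ∀ i, Pic (PicF.XT f (AbDual.ovr T (v i))) := fun i => toPic (x _ (hR' i))
  haveI := fun i => InvDescLib.isOpenImmersion_piece (f := f) v i
  obtain ⟨A, hA⟩ := (InvDescLib.isDisjointUnion_pieces (f := f) v).exists_pic c
  let u := Sigma.desc v
  let U := AbDual.ovr T u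
  have hA₁ : pull (PicF.secT f σ hσ U) A = 1 := (InvDescLib.isDisjointUnion_sigma W).eq_one fun i => by
    have h := InvDescLib.pull_secT_XTmap (σ := σ) (hσ := hσ) (InvDescLib.pieceHom v i) A
    rw [hA i, toPic_rig] at h
    exact h.symm
  haveI : Flat u := IsZariskiLocalAtSource.sigmaDesc fun i => inferInstance
  haveI : LocallyOfFinitePresentation u := IsZariskiLocalAtSource.sigmaDesc fun i => inferInstance
  haveI : Surjective u := ⟨fun z => by
    obtain ⟨i, y, hy⟩ := hcv z
    exact ⟨Sigma.ι W i y, by rw [← Scheme.Hom.comp_apply, Sigma.ι_desc]; exact hy⟩⟩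
  let k₁ := AbDual.ovrHom U (pullback.fst u u)
  let k₂ : AbDual.ovr U (pullback.fst u u) ⟶ U :=
    Over.homMk (pullback.snd u u) (pullback.condition_assoc T.hom).symm
  have hglue : pull (PicF.XTmap f k₁) A = pull (PicF.XTmap f k₂) A := by
    let P : 𝒱.I₀ × 𝒱.I₀ → Scheme.{u} := fun p => pullback (v p.1) (v p.2)
    let m : ∀ p, P p ⟶ pullback u u := fun p =>
      pullback.map (v p.1) (v p.2) u u (Sigma.ι W p.1) (Sigma.ι W p.2) (𝟙 _)
        (by simp [u]) (by simp [u])
    have hcm : ∀ z : (pullback u u : Scheme.{u}), ∃ p, z ∈ Set.range (m p) := by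
      intro z
      obtain ⟨i, a, ha'⟩ := (InvDescLib.isDisjointUnion_sigma W).cover (pullback.fst u u z)
      obtain ⟨j, b, hb'⟩ := (InvDescLib.isDisjointUnion_sigma W).cover (pullback.snd u u z)
      refine ⟨(i, j), ?_⟩
      have hr := Scheme.Pullback.range_map (v i) (v j) u u (Sigma.ι W i) (Sigma.ι W j) (𝟙 _)
        (by simp [u]) (by simp [u])
      rw [show Set.range (m (i, j)) = _ from hr]
      exact ⟨⟨a, ha'⟩, ⟨b, hb'⟩⟩
    refine eq_of_cover (hσ := hσ) ha (W := P) m hcm (InvDescLib.rigid_XTmap _ hA₁) (InvDescLib.rigid_XTmap _ hA₁)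
      fun p => ?_
    let Q := AbDual.ovr (AbDual.ovr U (pullback.fst u u)) (m p)
    let q₁ : Q ⟶ AbDual.ovr T (v p.1) := Over.homMk (pullback.fst (v p.1) (v p.2)) (by simp [Q, U, m, u])
    let q₂ : Q ⟶ AbDual.ovr T (v p.2) := Over.homMk (pullback.snd (v p.1) (v p.2)) (by
      simp [Q, U, m, u]
      rw [← pullback.condition_assoc])
    have e₁ : AbDual.ovrHom _ (m p) ≫ k₁ = q₁ ≫ InvDescLib.pieceHom v p.1 := Over.OverMorphism.ext (by simp [k₁, q₁, m])
    have e₂ : AbDual.ovrHom _ (m p) ≫ k₂ = q₂ ≫ InvDescLib.pieceHom v p.2 := Over.OverMorphism.ext (by simp [k₂, q₂, m])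
    rw [InvDescLib.pull_XTmap_XTmap k₁ _ e₁, InvDescLib.pull_XTmap_XTmap k₂ _ e₂,
      ← InvDescLib.pull_XTmap_XTmap (InvDescLib.pieceHom v p.1) q₁ rfl,
      ← InvDescLib.pull_XTmap_XTmap (InvDescLib.pieceHom v p.2) q₂ rfl, hA, hA, ← toPic_map, ← toPic_map]
    exact congrArg toPic (hx q₁ q₂ (hR' p.1) (hR' p.2) (Over.OverMorphism.ext pullback.condition))
  obtain ⟨b, ⟨hb, hb'⟩, -⟩ := InvDescLib.existsUnique_rig σ hσ ha T u A hA₁ hglue
  have hbi : ∀ i, pull (PicF.XTmap f (AbDual.ovrHom T (v i))) b = c i := fun i => by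
    rw [← InvDescLib.pull_XTmap_XTmap (AbDual.ovrHom T u) (InvDescLib.pieceHom v i) (InvDescLib.pieceHom_comp v i),
      hb', hA i]
  refine ⟨ofPic b hb, fun Y g hg => toPic_injective ?_, fun z hz => toPic_injective ?_⟩
  · rw [toPic_map, toPic_ofPic]
    let r : ∀ i, pullback g.left (v i) ⟶ Y.left := fun i => pullback.fst g.left (v i)
    refine eq_of_cover (hσ := hσ) ha r (fun y => ?_) (InvDescLib.rigid_XTmap _ hb) (toPic_rig _) fun i => ?_
    · obtain ⟨i, z, hz⟩ := hcv (g.left y)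
      obtain ⟨p, hp, -⟩ := Scheme.exists_preimage_of_isPullback (IsPullback.of_hasPullback g.left (v i)) y z hz.symm
      exact ⟨i, p, hp⟩
    · let w : AbDual.ovr Y (r i) ⟶ AbDual.ovr T (v i) := Over.homMk (pullback.snd g.left (v i)) (by
        show _ ≫ v i ≫ T.hom = r i ≫ Y.hom
        rw [← pullback.condition_assoc, Over.w g])
      have hsq : AbDual.ovrHom Y (r i) ≫ g = w ≫ AbDual.ovrHom T (v i) := Over.OverMorphism.ext pullback.condition
      rw [InvDescLib.pull_XTmap_XTmap g _ hsq, ← InvDescLib.pull_XTmap_XTmap (AbDual.ovrHom T (v i)) w rfl, hbi i,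
        ← toPic_map, ← toPic_map]
      exact (congrArg toPic (hx (AbDual.ovrHom Y (r i)) w hg (hR' i) hsq)).symm
  · rw [toPic_ofPic]
    refine eq_of_cover (hσ := hσ) ha v hcv (toPic_rig z) hb fun i => ?_
    rw [hbi i, ← toPic_map]
    exact congrArg toPic (hz (AbDual.ovrHom T (v i)) (hR' i))

end Groth.Agent.PicRepLib
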