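import Groth.Agent.PicRepLib.Good

/-!
# The zero scheme of a generating section is a relative divisor
-/

set_option autoImplicit false
set_option backward.isDefEq.respectTransparency false
set_option backward.isDefEq.respectTransparency.types false
set_option linter.style.haveILetI false
set_option maxHeartbeats 1000000

universe u

open CategoryTheory CategoryTheory.Limits AlgebraicGeometry TopologicalSpace Opposite
open Groth.Agent.PicLib Groth.Agent.PullbackMod Groth.Agent.ParaFLib Groth.Agent.JacLib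

noncomputable section

namespace Groth.Agent.PicRepLib

/-- A section of an invertible module on an integral scheme vanishing on a non-empty open vanishes. -/
theorem eq_zero_of_res_eq_zero {F : Scheme.{u}} [IsIntegral F] {M : F.Modules} (hM : PicF.IsInvertible M)
    (s : Γ(M, ⊤)) {W : F.Opens} (hW : (W : Set F).Nonempty) (h : M.presheaf.map (homOfLE le_top).op s = (0 : Γ(M, W))) :
    s = 0 := by
  choose U e hU he using fun y : F => ParaFLib.exists_gen_nhd hM y
  let N : TopCat.Sheaf Ab.{u} F.carrier := ⟨M.presheaf, M.isSheaf⟩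
  refine N.eq_of_locally_eq' U ⊤ (fun y => homOfLE le_top) (fun y _ => Opens.mem_iSup.2 ⟨y, hU y⟩) s 0 fun y => ?_
  refine res_injective_of_gen (he y) le_rfl (inf_le_left : U y ⊓ W ≤ U y)
    (fun hne => nonempty_preirreducible_inter (U y).2 W.2 hne hW) ?_
  simp only [map_zero]
  have h2 := congrArg (M.presheaf.map (homOfLE (inf_le_right : U y ⊓ W ≤ W)).op) h
  rw [map_zero, ParaFLib.res_res] at h2
  show M.presheaf.map (homOfLE (inf_le_left : U y ⊓ W ≤ U y)).op (M.presheaf.map (homOfLE le_top).op s) = 0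
  rw [ParaFLib.res_res]
  exact h2

variable {C S : Scheme.{u}} {f : C ⟶ S} [IsProper f] [SmoothOfRelativeDimension 1 f] [GeometricallyConnected f]
  {T : Over S} {L : (PicF.XT f T).Modules} (hL : PicF.IsInvertible L) (hgood : Good (cls hL) = Set.univ)

include hgood in
/-- The zero scheme of a generating section. -/
theorem exists_divisor {s : Γ(L, ⊤)}
    (hs : Gen (L := (Scheme.Modules.pushforward (PicF.XTproj f T)).obj L) (⊤ : T.left.Opens) s) :
    ∃ (K : (PicF.XT f T).IdealSheafData) (hI : PicF.IsInvertible (ClSub.idealMod K)),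
      Mor2.IsFinLocFree (K.subschemeι ≫ PicF.XTproj f T) ∧ AbelMapLib.IsCanSect K L s ∧ cls hL = (cls hI)⁻¹ := by
  haveI : Smooth f := SmoothOfRelativeDimension.smooth 1 f
  haveI := JacLib.geometricallyIntegral_curve f
  let X := PicF.XT f T
  let π := PicF.XTproj f T
  let K := PicF2.zeroScheme L (DCohLib.secHom L s)
  have hK := isCanSect_zeroScheme hL s
  have hfib : ∀ y : T.left, BlowUp.IsEffCartierIdeal (K.comap (π.fiberι y)) := by
    intro y z
    let F := π.fiber y
    haveI : IsIntegral F := inferInstanceAs (IsIntegral (π.fiber y))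
    obtain ⟨W, hzW, l, b, hl, hI, hsb⟩ := hK (π.fiberι y z)
    obtain ⟨W', hW', hzW', hle⟩ := exists_isAffineOpen_mem_and_subset
      (U := π.fiberι y ⁻¹ᵁ W.1) (show π.fiberι y z ∈ W.1 from hzW)
    let c := (π.fiberι y).appLE W.1 W' hle b
    refine ⟨⟨W', hW'⟩, hzW', c, ?_, ?_⟩
    · haveI : Nonempty W' := ⟨⟨z, hzW'⟩⟩
      refine mem_nonZeroDivisors_of_ne_zero fun hc => fibre_section_ne_zero hL hgood hs y ?_
      refine eq_zero_of_res_eq_zero (AmpleLib.isInvertible_pullback (π.fiberι y) hL) _ (W := W') ⟨z, hzW'⟩ ?_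
      rw [pullMap_res (π.fiberι y) L (fun _ _ => trivial : (⊤ : F.Opens) ≤ π.fiberι y ⁻¹ᵁ ⊤) (le_top : W.1 ≤ ⊤)
        (le_top : W' ≤ ⊤) hle s, hsb, pullMap_smul, show (π.fiberι y).appLE W.1 W' hle b = 0 from hc, zero_smul]
    · rw [IdealStalkLib.comap_ideal K (π.fiberι y) W.2 hW' hle, hI, Ideal.map_span, Set.image_singleton]
  have hchart : ∀ x : X, x ∈ K.support → _ := fun x hx => RelDivLib.exists_chart_of_fibre π K hx (by
    obtain ⟨W, hxW, l, b, hl, hI, hsb⟩ := hK x
    exact ⟨W, hxW, b, hI⟩) (hfib (π x))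
  have hC : BlowUp.IsEffCartierIdeal K := by
    intro x
    by_cases hx : x ∈ K.support
    · obtain ⟨W, V, e, hxV, ⟨c, hc, hI⟩, -⟩ := hchart x hx
      exact ⟨V, hxV, c, hc, hI⟩
    · obtain ⟨U, hxU, hU⟩ := IdealStalkLib.exists_unit_nhd K hx
      exact ⟨U, hxU, 1, one_mem _, by rw [hU, Ideal.span_singleton_one]⟩
  haveI : Flat (K.subschemeι ≫ π) := RelDivLib.flat_of_charts π K fun x hx => by
    obtain ⟨W, V, e, hxV, -, hfl⟩ := hchart x hx
    exact ⟨W, V, hxV, e, hfl⟩
  haveI := HilbCurveLib.lfp_subschemeι K hC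
  haveI : LocallyQuasiFinite (K.subschemeι ≫ π) := HilbCurveLib.lqf_of_effCartier_flat π K hC
  haveI : IsProper (K.subschemeι ≫ π) := inferInstance
  haveI : IsFinite (K.subschemeι ≫ π) := IsFinite.of_isProper_of_locallyQuasiFinite _
  have hI : PicF.IsInvertible (ClSub.idealMod K) := (Groth.Agent.S8914.result K).2 hC
  refine ⟨K, hI, ⟨inferInstance, inferInstance, inferInstance⟩, hK, ?_⟩
  refine eq_inv_of_mul_eq_one_left ?_
  rw [← cls_tensor hL hI, cls_eq_one]
  exact nonempty_tensor_idealMod_iso hC hK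

end Groth.Agent.PicRepLib
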